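import Groth.Agent.Lib.KS29.BaseChange
import Groth.Agent.Lib.ModM1.Coh
import Groth.Agent.Lib.ModM1.Stalk
import Groth.Agent.Lib.HomO15.Sections
import Groth.Agent.Lib.EffCartier.Basic

/-!
# Extending homomorphisms of coherent modules from the open where a function is invertible
-/

set_option autoImplicit false
set_option linter.style.haveILetI false
set_option linter.unusedSectionVars false
set_option backward.isDefEq.respectTransparency false
set_option backward.isDefEq.respectTransparency.types false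

universe u

open CategoryTheory CategoryTheory.Limits AlgebraicGeometry TopologicalSpace Opposite

noncomputable section

namespace Groth.Agent.HomDVR12

open Groth.Agent

variable {X C : Scheme.{u}}

/-- The powers of multiplication by a function. -/
theorem smulModΓ_app_pow (M : X.Modules) (r : Coh.Γtop X) (N : ℕ) (W : X.Opens) (m : Γ(M, W)) :
    (Formal.smulModΓ M (r ^ N)).app W m = M1.ores (le_top : W ≤ ⊤) r ^ N • m := by
  rw [KLin.smulModΓ_app_apply, map_pow]

theorem pow_smul_injective {F : X.Modules} {r : Coh.Γtop X} [Mono (Formal.smulModΓ F r)] (W : X.Opens) :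
    ∀ (n : ℕ) (s : Γ(F, W)), M1.ores (le_top : W ≤ ⊤) r ^ n • s = 0 → s = 0 := by
  intro n
  induction n with
  | zero => intro s h; rwa [pow_zero, one_smul] at h
  | succ n ih =>
    intro s h
    refine ih s (M1.app_injective (Formal.smulModΓ F r) W ?_)
    rw [map_zero, KLin.smulModΓ_app_apply]
    rw [pow_succ', mul_smul] at h
    exact h

variable (j : C ⟶ X) [IsOpenImmersion j]

/-- The unit into the sections over the open subscheme. -/
abbrev unit (F : X.Modules) : F ⟶ (Scheme.Modules.pushforward j).obj ((Scheme.Modules.restrictFunctor j).obj F) :=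
  (Scheme.Modules.restrictAdjunction j).unit.app F

theorem smul_push (F : X.Modules) {W : X.Opens} (a : Γ(X, W))
    (t : Γ((Scheme.Modules.pushforward j).obj ((Scheme.Modules.restrictFunctor j).obj F), W)) :
    (show Γ(F, j ''ᵁ j ⁻¹ᵁ W) from (a • t :)) =
      M1.ores (j.image_preimage_le W) a • (show Γ(F, j ''ᵁ j ⁻¹ᵁ W) from t) := by
  show (j.appIso (j ⁻¹ᵁ W)).inv (j.app W a) • (show Γ(F, j ''ᵁ j ⁻¹ᵁ W) from t) = _
  congr 1
  exact congrArg (fun φ => φ.hom a) (j.app_appIso_inv W)

variable {j}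
variable {r : Coh.Γtop X} (hj : j.opensRange = X.basicOpen r)
include hj

theorem image_preimage_eq (W : X.Opens) :
    j ''ᵁ j ⁻¹ᵁ W = X.basicOpen (M1.ores (le_top : W ≤ ⊤) r) := by
  rw [Scheme.Hom.image_preimage_eq_opensRange_inf, hj, inf_comm]
  exact (Scheme.basicOpen_res X r (homOfLE (le_top : W ≤ ⊤)).op).symm

theorem unit_app_eq_zero {F : X.Modules} [Coh.IsQCoh F] [Mono (Formal.smulModΓ F r)] {W : X.Opens}
    (hW : IsAffineOpen W) {s : Γ(F, W)} (h : (unit j F).app W s = 0) : s = 0 := by
  have h' : M1.mres F (j.image_preimage_le W) s = 0 := h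
  obtain ⟨n, hn⟩ := M1.exists_pow_smul_eq_zero_affine F hW (M1.ores (le_top : W ≤ ⊤) r) s (by
    rw [← M1.mres_mres F (j.image_preimage_le W) (image_preimage_eq hj W).ge, h', map_zero])
  exact pow_smul_injective W n s hn

theorem mono_unit (F : X.Modules) [Coh.IsQCoh F] [Mono (Formal.smulModΓ F r)] : Mono (unit j F) :=
  Preadditive.mono_of_cancel_zero _ fun {A} g hg => by
    refine Scheme.Modules.hom_ext _ _ fun V => ?_
    ext t
    refine M1.section_ext _ _ fun x hx => ?_
    obtain ⟨W, hW, hxW, hWV⟩ := exists_isAffineOpen_mem_and_subset hx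
    have h0 : g.app W (M1.mres A hWV t) = 0 := unit_app_eq_zero hj hW
      (congrArg (fun φ : A ⟶ (Scheme.Modules.pushforward j).obj ((Scheme.Modules.restrictFunctor j).obj F) =>
        φ.app W (M1.mres A hWV t)) hg)
    rw [M1.app_mres] at h0
    rw [← M1.germ_mres F hWV hxW (g.app V t), h0, map_zero]
    exact (map_zero (F.presheaf.germ V x hx).hom).symm

theorem restrict_map_injective {I F : X.Modules} [Coh.IsQCoh F] [Mono (Formal.smulModΓ F r)]
    {φ : I ⟶ F} (h : (Scheme.Modules.restrictFunctor j).map φ = 0) : φ = 0 := by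
  haveI := mono_unit hj F
  refine zero_of_comp_mono (unit j F) ?_
  refine ((Scheme.Modules.restrictAdjunction j).unit.naturality φ).trans ?_
  rw [Functor.comp_map, h, Functor.map_zero, comp_zero]

/-- A homomorphism over the open extends after multiplication by a power of the function. -/
theorem exists_extend [CompactSpace X] {I F : X.Modules} (hI : Coh.IsQCoh I) (hIf : CohB1.IsFT I)
    [Coh.IsQCoh F] [Mono (Formal.smulModΓ F r)]
    (ψ : (Scheme.Modules.restrictFunctor j).obj I ⟶ (Scheme.Modules.restrictFunctor j).obj F) :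
    ∃ (N : ℕ) (φ : I ⟶ F), (Scheme.Modules.restrictFunctor j).map φ =
      (Scheme.Modules.restrictFunctor j).map (Formal.smulModΓ I (r ^ N)) ≫ ψ := by
  classical
  let adj := Scheme.Modules.restrictAdjunction j
  let ψ' := adj.homEquiv _ _ ψ
  haveI := hI
  have key : ∀ x : X, ∃ (W : X.Opens) (T : Finset Γ(I, W)) (k : ℕ), x ∈ W ∧ IsAffineOpen W ∧
      Submodule.span Γ(X, W) (T : Set Γ(I, W)) = ⊤ ∧ ∀ t ∈ T, ∀ N, k ≤ N →
        ∃ s, (unit j F).app W s = M1.ores (le_top : W ≤ ⊤) r ^ N • ψ'.app W t := by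
    intro x
    obtain ⟨W, hW, hxW, -⟩ := exists_isAffineOpen_mem_and_subset (x := x) (U := ⊤) trivial
    haveI := M1.finite_sections hI hIf hW
    obtain ⟨T, hT⟩ := Module.Finite.fg_top (R := Γ(X, W)) (M := Γ(I, W))
    have hk : ∀ t : Γ(I, W), ∃ (k : ℕ) (s : Γ(F, W)),
        (unit j F).app W s = M1.ores (le_top : W ≤ ⊤) r ^ k • ψ'.app W t := fun t => by
      have e := image_preimage_eq hj W
      obtain ⟨k, s, hs⟩ := M1.exists_pow_smul_eq_res_affine F hW (M1.ores (le_top : W ≤ ⊤) r)
        (M1.mres F e.ge (show Γ(F, j ''ᵁ j ⁻¹ᵁ W) from ψ'.app W t))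
      refine ⟨k, s, ?_⟩
      show M1.mres F (j.image_preimage_le W) s = _
      refine Eq.trans ?_ (smul_push j F _ _).symm
      have h2 := congrArg (M1.mres F e.le) hs
      rw [M1.mres_mres, M1.mres_smul, M1.mres_mres, M1.mres_id, map_pow] at h2
      rw [map_pow]
      refine h2.trans ?_
      rw [M1.ores_ores]
    choose k s hs using hk
    refine ⟨W, T, T.sup k, hxW, hW, hT, fun t ht N hN => ?_⟩
    have hkN : k t ≤ N := (Finset.le_sup ht).trans hN
    refine ⟨M1.ores (le_top : W ≤ ⊤) r ^ (N - k t) • s t, ?_⟩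
    rw [Scheme.Modules.Hom.app_smul, hs, smul_smul, ← pow_add, Nat.sub_add_cancel hkN]
  choose W T k hxW hW hT hs using key
  obtain ⟨S, hS⟩ := isCompact_univ.elim_finite_subcover (fun x : X => (W x : Set X))
    (fun x => (W x).2) fun x _ => Set.mem_iUnion.2 ⟨x, hxW x⟩
  let N := S.sup k
  haveI := mono_unit hj F
  let g := Formal.smulModΓ I (r ^ N) ≫ ψ'
  have hg : g ≫ cokernel.π (unit j F) = 0 := KS29.eq_zero_of_generators _ fun y => by
    obtain ⟨x, hxS, hy⟩ := Set.mem_iUnion₂.1 (hS (Set.mem_univ y))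
    refine ⟨W x, (T x : Set _), hy, hW x, hT x, fun t ht => ?_⟩
    obtain ⟨s, hs'⟩ := hs x t ht N (Finset.le_sup hxS)
    show (cokernel.π (unit j F)).app (W x) (ψ'.app (W x) ((Formal.smulModΓ I (r ^ N)).app (W x) t)) = 0
    rw [smulModΓ_app_pow, Scheme.Modules.Hom.app_smul, ← hs']
    exact congrArg (fun φ : F ⟶ cokernel (unit j F) => φ.app (W x) s) (cokernel.condition (unit j F))
  refine ⟨N, Abelian.monoLift (unit j F) g hg, (adj.homEquiv _ _).injective ?_⟩
  rw [adj.homEquiv_naturality_left]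
  refine Eq.trans ?_ (Abelian.monoLift_comp (unit j F) g hg)
  rw [adj.homEquiv_unit]
  exact (adj.unit.naturality _).symm

omit hj
end Groth.Agent.HomDVR12
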