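import Groth.Agent.Lib.HomDVR12.Extend
import Groth.Agent.Lib.DefDiag3.Hom
import Groth.Agent.Lib.RedDVR15.Alg
import Groth.Prelude.Def_FlatMod2

/-!
# Homomorphisms of flat coherent modules on a proper scheme over a discrete valuation ring
-/

set_option autoImplicit false
set_option linter.style.haveILetI false
set_option linter.unusedSectionVars false
set_option backward.isDefEq.respectTransparency false
set_option backward.isDefEq.respectTransparency.types false

universe u

open CategoryTheory CategoryTheory.Limits AlgebraicGeometry TopologicalSpace Opposite MonoidalCategory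

noncomputable section

namespace Groth.Agent.HomDVR12

open Groth.Agent CohMop DefDiag3

section finite

variable {A : Type u} [CommRing A] {X : Scheme.{u}} [X.Over (Spec (CommRingCat.of A))]

theorem linear_tenR' (I : X.Modules) : (tenR I).Linear A :=
  (Functor.linear_iff A _).mpr fun W c => by
    rw [KLin.smul_id, KLin.smul_id]
    exact tenR_map_smulModΓ I W _

theorem linear_ihom' (I : X.Modules) : (ihom I).Linear A := by
  haveI := linear_tenR' (A := A) I
  refine (Functor.linear_iff A _).mpr fun M a => ?_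
  let adj := ihomAdj I
  refine (adj.homEquiv _ _).symm.injective ?_
  rw [adj.homEquiv_counit, adj.homEquiv_counit, ← Functor.comp_map]
  erw [adj.counit.naturality]
  rw [Functor.id_map, Functor.map_smul, CategoryTheory.Functor.map_id]
  erw [Linear.comp_smul, Category.comp_id, Linear.smul_comp, Category.id_comp]

theorem eHom_smul' (I : X.Modules) {Q : X.Modules} (c : A) (f : I ⟶ Q) :
    eHom I (c • f) = (show Γ(X, ⊤) from Coh.toGlobal (X ↘ Spec (CommRingCat.of A)) c) • eHom I f := by
  haveI := linear_ihom' (A := A) I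
  unfold eHom
  rw [Linear.comp_smul, Adjunction.homEquiv_unit, Functor.map_smul, Linear.comp_smul, KLin.smul_app_apply,
    ← Adjunction.homEquiv_unit]
  congr 1
  exact congrArg (fun t : X.presheaf.obj (op ⊤) ⟶ X.presheaf.obj (op ⊤) => t.hom _) (X.presheaf.map_id _)

/-- Homomorphisms of coherent modules on a proper scheme form a finite module over the base. -/
theorem finite_hom [IsNoetherianRing A] [IsProper (X ↘ Spec (CommRingCat.of A))] {F G : X.Modules}
    (hF : Coh.IsCoh F) (hG : Coh.IsCoh G) : Module.Finite A (F ⟶ G) := by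
  classical
  let f := X ↘ Spec (CommRingCat.of A)
  let P := ihom F ⋙ Scheme.Modules.pushforward f
  haveI : P.Additive := inferInstance
  haveI : PreservesFiniteLimits P :=
    haveI : PreservesLimitsOfSize.{0, 0} (Scheme.Modules.pushforward f) :=
      (Scheme.Modules.pullbackPushforwardAdjunction f).rightAdjoint_preservesLimits
    haveI : PreservesFiniteLimits (Scheme.Modules.pushforward f) := PreservesLimitsOfSize.preservesFiniteLimits _
    haveI : PreservesFiniteLimits (ihom F) := PreservesLimitsOfSize.preservesFiniteLimits _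
    comp_preservesFiniteLimits _ _
  have hC : Coh.IsCoh (P.obj G) :=
    isCoh_of_iso (P.rightDerivedZeroIsoSelf.app G) (isCoh_relExt f hF hG 0)
  let str : A →+* Γ(Spec (CommRingCat.of A), ⊤) := (Scheme.ΓSpecIso (CommRingCat.of A)).inv.hom
  letI : Module A Γ(P.obj G, ⊤) := Module.compHom _ str
  haveI : Module.Finite A Γ(P.obj G, ⊤) := by
    haveI := M1.finite_sections hC.1 hC.2 (isAffineOpen_top (Spec (CommRingCat.of A)))
    letI : Algebra A Γ(Spec (CommRingCat.of A), ⊤) := str.toAlgebra
    haveI : IsScalarTower A Γ(Spec (CommRingCat.of A), ⊤) Γ(P.obj G, ⊤) :=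
      IsScalarTower.of_algebraMap_smul fun _ _ => rfl
    haveI : Module.Finite A Γ(Spec (CommRingCat.of A), ⊤) :=
      Module.Finite.of_surjective (Algebra.linearMap A _)
        (ConcreteCategory.bijective_of_isIso (Scheme.ΓSpecIso (CommRingCat.of A)).inv).2
    exact Module.Finite.trans Γ(Spec (CommRingCat.of A), ⊤) _
  let Φ : (F ⟶ G) →ₗ[A] Γ(P.obj G, ⊤) :=
    { toFun := fun g => (eHom F g : Γ(P.obj G, ⊤))
      map_add' := fun a b => eHom_add F a b
      map_smul' := fun c g => by
        rw [RingHom.id_apply, eHom_smul']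
        rfl }
  exact Module.Finite.of_injective Φ (eHom_injective F)

end finite

variable {R : Type u} [CommRing R] [IsDomain R] {X : Scheme.{u}}

/-- Multiplication by a nonzero scalar is injective on a module flat over a domain. -/
theorem mono_smulModΓ_of_flat (p : X ⟶ Spec (CommRingCat.of R)) {F : X.Modules} (hF : FlatMod.IsFlatOver p F)
    {c : R} (hc : c ≠ 0) : Mono (Formal.smulModΓ F (Coh.toGlobal p c)) := by
  refine Preadditive.mono_of_cancel_zero _ fun {A} g hg => ?_
  refine Scheme.Modules.hom_ext _ _ fun U => ?_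
  ext t
  refine M1.section_ext _ _ fun x hx => ?_
  refine Eq.trans ?_ (map_zero (F.presheaf.germ U x hx).hom).symm
  have h1 := congrArg (fun φ : A ⟶ F => F.presheaf.germ U x hx (φ.app U t)) hg
  replace h1 : F.presheaf.germ U x hx (M1.ores (le_top : U ≤ ⊤) (Coh.toGlobal p c) • g.app U t) = 0 :=
    h1.trans (map_zero _)
  letI := FlatMod.moduleStalkOver p F x
  haveI : Module.Flat ((Spec (CommRingCat.of R)).presheaf.stalk (p.base x)) (F.presheaf.stalk x) := hF x
  haveI : Nonempty (⊤ : (Spec (CommRingCat.of R)).Opens) := ⟨⟨p.base x, trivial⟩⟩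
  let a : (Spec (CommRingCat.of R)).presheaf.stalk (p.base x) :=
    (Spec (CommRingCat.of R)).presheaf.germ ⊤ (p.base x) trivial ((Scheme.ΓSpecIso (CommRingCat.of R)).inv c)
  have ha : a ≠ 0 := fun h => hc ((ConcreteCategory.bijective_of_isIso (Scheme.ΓSpecIso (CommRingCat.of R)).inv).1
    ((germ_injective_of_isIntegral _ _ (U := ⊤) trivial (h.trans (map_zero _).symm)).trans (map_zero _).symm))
  refine (Module.Flat.isSMulRegular_of_isRegular (R := (Spec (CommRingCat.of R)).presheaf.stalk (p.base x))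
    (M := F.presheaf.stalk x) (r := a) (isRegular_iff_ne_zero'.mpr ha)) (Eq.trans ?_ (smul_zero a).symm)
  rw [M1.germ_smul] at h1
  refine Eq.trans ?_ h1
  show (p.stalkMap x a) • F.presheaf.germ U x hx (g.app U t) = _
  congr 1
  refine (Scheme.Hom.germ_stalkMap_apply p ⊤ x trivial _).trans ?_
  exact (TopCat.Presheaf.germ_res_apply X.presheaf (homOfLE (le_top : U ≤ ⊤)) x hx _).symm

section points

/-- The value of a scalar at a point of the base. -/
def evalPt (y : ↥(Spec (CommRingCat.of R))) : R →+* (Spec (CommRingCat.of R)).residueField y :=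
  ((Scheme.ΓSpecIso (CommRingCat.of R)).inv ≫ (Spec (CommRingCat.of R)).presheaf.germ ⊤ y trivial ≫
    (Spec (CommRingCat.of R)).residue y).hom

theorem evalPt_eq_zero_iff (y : ↥(Spec (CommRingCat.of R))) (c : R) :
    evalPt y c = 0 ↔ c ∈ y.asIdeal := by
  refine ((Spec (CommRingCat.of R)).evaluation_eq_zero_iff_notMem_basicOpen (U := ⊤) y trivial
    ((Scheme.ΓSpecIso (CommRingCat.of R)).inv c)).trans ?_
  rw [basicOpen_eq_of_affine]
  exact not_not

theorem fromSpecResidueField_eq (y : ↥(Spec (CommRingCat.of R))) :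
    (Spec (CommRingCat.of R)).fromSpecResidueField y = Spec.map (CommRingCat.ofHom (evalPt y)) := by
  rw [Scheme.fromSpecResidueField, Spec.fromSpecStalk_eq, ← Spec.map_comp]
  rfl

variable (p : X ⟶ Spec (CommRingCat.of R)) (y : ↥(Spec (CommRingCat.of R)))

/-- Scalars of the base act on the fibre by their values. -/
theorem toGlobal_fibre (c : R) :
    Coh.toGlobal (p.fiberToSpecResidueField y : p.fiber y ⟶ Spec (CommRingCat.of _)) (evalPt y c) =
      (p.fiberι y).appTop (Coh.toGlobal p c) := by
  have h : p.fiberι y ≫ p = p.fiberToSpecResidueField y ≫ Spec.map (CommRingCat.ofHom (evalPt y)) := by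
    rw [← fromSpecResidueField_eq]; exact pullback.condition
  have h2 := congrArg (fun φ => φ.hom ((Scheme.ΓSpecIso (CommRingCat.of R)).inv c)) (congrArg Scheme.Hom.appTop h)
  rw [Scheme.Hom.comp_appTop, Scheme.Hom.comp_appTop] at h2
  refine Eq.trans ?_ h2.symm
  show (p.fiberToSpecResidueField y).appTop ((Scheme.ΓSpecIso _).inv (evalPt y c)) = _
  exact congrArg (fun z => (p.fiberToSpecResidueField y).appTop.hom z)
    (congrArg (fun φ => φ.hom c) (Scheme.ΓSpecIso_inv_naturality (CommRingCat.ofHom (evalPt y))))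

end points

section dvr

variable [IsDiscreteValuationRing R]

abbrev η₀ (R : Type u) [CommRing R] [IsDomain R] : ↥(Spec (CommRingCat.of R)) :=
  genericPoint (Spec (CommRingCat.of R))

theorem η₀_asIdeal : (η₀ R).asIdeal = ⊥ := by
  rw [η₀, genericPoint_eq_bot_of_affine]; rfl

theorem evalPt_injective : Function.Injective (evalPt (η₀ R)) :=
  (injective_iff_map_eq_zero _).2 fun c hc => by
    have := (evalPt_eq_zero_iff _ c).1 hc
    rwa [η₀_asIdeal, Ideal.mem_bot] at this

theorem isFractionRing_generic :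
    @IsFractionRing R _ ((Spec (CommRingCat.of R)).residueField (η₀ R)) _ (evalPt (η₀ R)).toAlgebra := by
  letI := (evalPt (η₀ R)).toAlgebra
  have hf : IsField ((Spec (CommRingCat.of R)).presheaf.stalk (η₀ R)) :=
    Field.toIsField (Spec (CommRingCat.of R)).functionField
  have hb : Function.Bijective ((Spec (CommRingCat.of R)).residue (η₀ R)) :=
    ⟨(injective_iff_map_eq_zero _).2 fun a ha => by
      have h1 := (IsLocalRing.residue_eq_zero_iff a).1 ha
      rwa [IsLocalRing.isField_iff_maximalIdeal_eq.1 hf, Ideal.mem_bot] at h1,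
    (Spec (CommRingCat.of R)).residue_surjective _⟩
  letI : Algebra R (Spec (CommRingCat.of R)).functionField :=
    instAlgebraCarrierFunctionFieldSpec (CommRingCat.of R)
  haveI : IsFractionRing R (Spec (CommRingCat.of R)).functionField :=
    functionField_isFractionRing_of_affine (CommRingCat.of R)
  exact IsLocalization.isLocalization_of_algEquiv (nonZeroDivisors R)
    (AlgEquiv.ofRingEquiv (R := R) (A₁ := (Spec (CommRingCat.of R)).functionField)
      (f := RingEquiv.ofBijective ((Spec (CommRingCat.of R)).residue (η₀ R)).hom hb) fun c => rfl)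

variable {ϖ : R} (hϖ : Irreducible ϖ) (p : X ⟶ Spec (CommRingCat.of R))
include hϖ

theorem generic_open :
    IsOpenImmersion ((Spec (CommRingCat.of R)).fromSpecResidueField (η₀ R)) ∧
      ({η₀ R} : Set _) = ((PrimeSpectrum.basicOpen ϖ : Opens (PrimeSpectrum R)) : Set (PrimeSpectrum R)) := by
  letI := (evalPt (η₀ R)).toAlgebra
  haveI := isFractionRing_generic (R := R)
  haveI : IsLocalization.Away ϖ ((Spec (CommRingCat.of R)).residueField (η₀ R)) := by
    refine (IsLocalization.iff_of_le_of_exists_dvd (Submonoid.powers ϖ) (nonZeroDivisors R) ?_ fun n hn => ?_).2 inferInstance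
    · exact Submonoid.powers_le.2 (mem_nonZeroDivisors_of_ne_zero hϖ.ne_zero)
    · obtain ⟨i, u, rfl⟩ := IsDiscreteValuationRing.eq_unit_mul_pow_irreducible (nonZeroDivisors.ne_zero hn) hϖ
      exact ⟨ϖ ^ i, ⟨i, rfl⟩, (Units.mul_left_dvd).2 dvd_rfl⟩
  refine ⟨?_, ?_⟩
  · rw [fromSpecResidueField_eq]
    exact IsOpenImmersion.of_isLocalization ϖ
  · rw [← Scheme.range_fromSpecResidueField, fromSpecResidueField_eq]
    exact PrimeSpectrum.localization_away_comap_range _ ϖ

theorem eq_generic_or (y : ↥(Spec (CommRingCat.of R))) :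
    y = η₀ R ∨ (IsClosed ({y} : Set _) ∧ ∀ c : R, c ∈ y.asIdeal → ϖ ∣ c) := by
  by_cases hy : y.asIdeal = ⊥
  · exact Or.inl (PrimeSpectrum.ext (hy.trans η₀_asIdeal.symm))
  · haveI := y.isPrime
    have hm : y.asIdeal.IsMaximal := IsPrime.to_maximal_ideal hy
    refine Or.inr ⟨(PrimeSpectrum.isClosed_singleton_iff_isMaximal y).2 hm, fun c hc => ?_⟩
    rw [IsLocalRing.eq_maximalIdeal hm, (IsDiscreteValuationRing.irreducible_iff_uniformizer ϖ).mp hϖ,
      Ideal.mem_span_singleton] at hc
    exact hc

theorem generic_fibre :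
    IsOpenImmersion (p.fiberι (η₀ R)) ∧
      (Set.range (p.fiberι (η₀ R)) = ((X.basicOpen (Coh.toGlobal p ϖ) : X.Opens) : Set X)) := by
  obtain ⟨h1, h2⟩ := generic_open hϖ
  refine ⟨inferInstanceAs (IsOpenImmersion (pullback.fst _ _)), ?_⟩
  rw [Scheme.Hom.range_fiberι, h2]
  have h : X.basicOpen (Coh.toGlobal p ϖ) = p ⁻¹ᵁ (PrimeSpectrum.basicOpen ϖ) := by
    rw [← basicOpen_eq_of_affine (R := CommRingCat.of R) ϖ, Scheme.preimage_basicOpen]
    rfl
  rw [h]
  rfl

/-- The ideal of a closed fibre is generated by the uniformizer. -/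
theorem killed_fibre {y : ↥(Spec (CommRingCat.of R))} (hy : IsClosed ({y} : Set _))
    (hdvd : ∀ c : R, c ∈ y.asIdeal → ϖ ∣ c) {Q : X.Modules}
    (hQ : Formal.smulModΓ Q (Coh.toGlobal p ϖ) = 0) :
    IsClosedImmersion (p.fiberι y) ∧ HomO15.Killed (p.fiberι y) Q := by
  let S := Spec (CommRingCat.of R)
  haveI hi : IsClosedImmersion (S.fromSpecResidueField y) :=
    .of_isPreimmersion _ (by rw [Scheme.range_fromSpecResidueField]; exact hy)
  refine ⟨inferInstanceAs (IsClosedImmersion (pullback.fst _ _)), fun U a ha s => ?_⟩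
  change a ∈ (pullback.fst p (S.fromSpecResidueField y)).ker.ideal U at ha
  rw [Scheme.IdealSheafData.ker_fst_of_isClosedImmersion,
    EffCartier.comap_ideal _ p ⟨⊤, isAffineOpen_top _⟩ U le_top, Scheme.Hom.ker_apply] at ha
  revert s
  refine Submodule.span_induction ?_ ?_ ?_ ?_ ha
  · rintro _ ⟨b, hb, rfl⟩ s
    obtain ⟨c, rfl⟩ := (ConcreteCategory.bijective_of_isIso (Scheme.ΓSpecIso (CommRingCat.of R)).inv).2 b
    have hc : evalPt y c = 0 := by
      have h0 : (Spec.map (CommRingCat.ofHom (evalPt y))).appTop ((Scheme.ΓSpecIso (CommRingCat.of R)).inv c) = 0 := by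
        rw [← fromSpecResidueField_eq]; exact hb
      refine (ConcreteCategory.bijective_of_isIso (Scheme.ΓSpecIso (CommRingCat.of ((Spec (CommRingCat.of R)).residueField y))).inv).1 ?_
      exact ((congrArg (fun φ => φ.hom c) (Scheme.ΓSpecIso_inv_naturality (CommRingCat.ofHom (evalPt y)))).trans h0).trans
        (map_zero (Scheme.ΓSpecIso (CommRingCat.of ((Spec (CommRingCat.of R)).residueField y))).inv.hom).symm
    obtain ⟨d, rfl⟩ := hdvd c ((evalPt_eq_zero_iff y c).1 hc)
    show (M1.ores (le_top : U.1 ≤ ⊤) (Coh.toGlobal p (ϖ * d))) • s = 0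
    rw [map_mul, map_mul, mul_smul]
    refine Eq.trans ?_ (congrArg (fun φ : Q ⟶ Q => φ.app U.1 (M1.ores (le_top : U.1 ≤ ⊤) (Coh.toGlobal p d) • s)) hQ)
    rfl
  · intro s; exact zero_smul _ _
  · intro a b _ _ ha hb s; rw [add_smul, ha, hb, add_zero]
  · intro r a _ ha s; rw [smul_eq_mul, mul_smul, ha, smul_zero]

/-- A homomorphism vanishing on a closed fibre is divisible by the uniformizer. -/
theorem exists_eq_smul {I F : X.Modules} [Coh.IsQCoh F] (hmono : Mono (Formal.smulModΓ F (Coh.toGlobal p ϖ)))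
    {y : ↥(Spec (CommRingCat.of R))} (hy : IsClosed ({y} : Set _))
    (hdvd : ∀ c : R, c ∈ y.asIdeal → ϖ ∣ c) {φ : I ⟶ F}
    (hφ : (Scheme.Modules.pullback (p.fiberι y)).map φ = 0) :
    ∃ ψ : I ⟶ F, φ = ψ ≫ Formal.smulModΓ F (Coh.toGlobal p ϖ) := by
  let a := Formal.smulModΓ F (Coh.toGlobal p ϖ)
  let q := cokernel.π a
  have hQ : Formal.smulModΓ (cokernel a) (Coh.toGlobal p ϖ) = 0 := by
    rw [← cancel_epi q, KLin.comp_smulModΓ, cokernel.condition, comp_zero]
  obtain ⟨hi, hk⟩ := killed_fibre hϖ p hy hdvd hQ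
  haveI := hi
  haveI := HomO15.isIso_unit (p.fiberι y) hk
  have h0 : φ ≫ q = 0 := by
    rw [← cancel_mono ((Scheme.Modules.pullbackPushforwardAdjunction (p.fiberι y)).unit.app (cokernel a)), zero_comp]
    refine ((Scheme.Modules.pullbackPushforwardAdjunction (p.fiberι y)).unit.naturality (φ ≫ q)).trans ?_
    rw [Functor.comp_map, Functor.map_comp, hφ, zero_comp, Functor.map_zero, comp_zero]
  exact ⟨Abelian.monoLift a φ h0, (Abelian.monoLift_comp a φ h0).symm⟩

end dvr

end Groth.Agent.HomDVR12
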